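import Groth.Agent.H17.ExtRegVanish.Abstract
import Groth.Agent.H17.KoszTwist.Stalk
import Groth.Agent.H10Coh.ModRes

/-!
# Vanishing of `Ext` along a regular sequence of global functions
-/

set_option autoImplicit false
universe u

open CategoryTheory CategoryTheory.Limits CategoryTheory.Abelian AlgebraicGeometry Opposite TopologicalSpace

noncomputable section

namespace Groth.Agent.H17.ExtRegVanish

open Groth.Agent.H06Mod Groth.Agent.H29Omega Groth.Agent.H17.KoszTwist

variable {X : Scheme.{u}}

/-- The restriction of a global function. -/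
abbrev res (U : X.Opens) (a : Γ(X, ⊤)) : Γ(X, U) := X.presheaf.map (homOfLE (le_top : U ≤ ⊤)).op a

/-- Multiplication by a global function. -/
def mulEnd (a : Γ(X, ⊤)) (M : X.Modules) : M ⟶ M :=
  ⟨PresheafOfModules.homMk
    { app := fun U => AddCommGrpCat.ofHom
        (DistribMulAction.toAddMonoidHom Γ(M, U.unop) (res U.unop a))
      naturality := fun U V g => by
        ext m
        have h1 : X.presheaf.map g (res U.unop a) = res V.unop a :=
          (ConcreteCategory.congr_hom (X.presheaf.map_comp (homOfLE le_top).op g) a).symm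
        have h2 : ∀ m' : Γ(M, U.unop), res V.unop a • (show Γ(M, V.unop) from M.presheaf.map g m') =
            (show Γ(M, V.unop) from M.presheaf.map g (res U.unop a • m')) := fun m' => by
          rw [← h1]
          exact (Scheme.Modules.map_smul M g.unop (res U.unop a) m').symm
        exact h2 m }
    (fun U r m => smul_comm (show Γ(X, U.unop) from res U.unop a) (show Γ(X, U.unop) from r)
      (show Γ(M, U.unop) from m))⟩

@[simp]
theorem mulEnd_app (a : Γ(X, ⊤)) (M : X.Modules) (U : X.Opens) (m : Γ(M, U)) :
    (mulEnd a M).app U m = res U a • m := rfl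

/-- Multiplication by a global function, natural in the module. -/
def mulNat (a : Γ(X, ⊤)) : 𝟭 X.Modules ⟶ 𝟭 X.Modules where
  app M := mulEnd a M
  naturality M N φ := by
    refine Scheme.Modules.hom_ext _ _ fun U => ?_
    ext m
    show res U a • φ.app U m = φ.app U (res U a • m)
    rw [φ.app_smul]

theorem mulEnd_natural (a : Γ(X, ⊤)) {M N : X.Modules} (φ : M ⟶ N) :
    φ ≫ mulEnd a N = mulEnd a M ≫ φ :=
  (mulNat a).naturality φ

theorem stalkLin_mulEnd (a : Γ(X, ⊤)) (M : X.Modules) (x : X) (t : M.presheaf.stalk x) :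
    stalkLin (mulEnd a M) x t = X.presheaf.germ ⊤ x trivial a • t := by
  obtain ⟨U, hU, s, rfl⟩ := M.presheaf.exists_germ_eq t
  rw [stalkLin_germ, mulEnd_app, H06Mod.germ_smul M U hU, res,
    TopCat.Presheaf.germ_res_apply]

/-- Killed by all members of a list of global functions. -/
def Killed (l : List Γ(X, ⊤)) (G : X.Modules) : Prop := ∀ a ∈ l, mulEnd a G = 0

theorem Killed.of_mono {l : List Γ(X, ⊤)} {A B : X.Modules} (m : A ⟶ B) [Mono m] (h : Killed l B) :
    Killed l A := fun a ha => by
  rw [← cancel_mono m, zero_comp, ← mulEnd_natural, h a ha, comp_zero]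

variable [HasExt.{u} X.Modules]

/-- A module killed by a sequence which is regular on the stalks of `E` has no `Ext` into `E`
below the length of the sequence. -/
theorem subsingleton_ext_of_regular : ∀ (l : List Γ(X, ⊤)) (G E : X.Modules), Killed l G →
    (∀ x : X, RingTheory.Sequence.IsWeaklyRegular (E.presheaf.stalk x)
      (l.map (fun a => X.presheaf.germ ⊤ x trivial a))) →
    ∀ q < l.length, Subsingleton (Ext.{u} G E q) := by
  haveI : EnoughInjectives X.Modules := H10Coh.enoughInjMod X
  intro l
  induction l with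
  | nil => intro G E _ _ q hq; exact absurd hq (Nat.not_lt_zero q)
  | cons a t ih =>
    intro G E hG hE q hq
    have hreg : ∀ x, IsSMulRegular (E.presheaf.stalk x) (X.presheaf.germ ⊤ x trivial a) :=
      fun x => ((RingTheory.Sequence.isWeaklyRegular_cons_iff _ _ _).1 (hE x)).1
    haveI : Mono (mulEnd a E) := mono_of_stalk_injective _ fun x u v h => hreg x (by
      rwa [stalkLin_mulEnd, stalkLin_mulEnd] at h)
    have h0 : mulEnd a G = 0 := hG a List.mem_cons_self
    refine subsingleton_of_forall_eq 0 fun x => ?_
    let S := ShortComplex.mk (mulEnd a E) (cokernel.π (mulEnd a E)) (cokernel.condition _)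
    have hS : S.ShortExact := { exact := ShortComplex.exact_cokernel _ }
    have hx : x.comp (Ext.mk₀ S.f) (add_zero q) = 0 := by
      show x.comp (Ext.mk₀ ((mulNat a).app E)) (add_zero q) = 0
      rw [comp_natTrans]
      show (Ext.mk₀ (mulEnd a G)).comp x (zero_add q) = 0
      rw [h0, Ext.mk₀_zero, Ext.zero_comp]
    cases q with
    | zero =>
      obtain ⟨φ, rfl⟩ : ∃ φ, Ext.mk₀ φ = x := ⟨Ext.addEquiv₀ x, Ext.addEquiv₀.symm_apply_apply x⟩
      rw [Ext.mk₀_comp_mk₀] at hx
      have hφ : φ ≫ mulEnd a E = 0 :=
        Ext.addEquiv₀.symm.injective (hx.trans (Ext.mk₀_zero _ _).symm)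
      rw [show φ = 0 from (cancel_mono (mulEnd a E)).1 (hφ.trans zero_comp.symm), Ext.mk₀_zero]
    | succ n =>
      obtain ⟨y, rfl⟩ := Ext.covariant_sequence_exact₁ _ hS x hx rfl
      have := ih G S.X₃ (fun b hb => hG b (List.mem_cons_of_mem a hb)) (fun p => ?_) n
        (by simpa using hq)
      · rw [Subsingleton.elim y 0, Ext.zero_comp]
      · have hreg' := ((RingTheory.Sequence.isWeaklyRegular_cons_iff _ _ _).1 (hE p)).2
        refine (LinearEquiv.isWeaklyRegular_congr ?_ _).1 hreg'
        refine (Submodule.quotEquivOfEq _ (LinearMap.ker (stalkLin S.g p)) ?_).trans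
          (LinearMap.quotKerEquivOfSurjective _ (stalk_surjective S hS p))
        rw [← range_eq_ker_of_exact S hS.exact p]
        ext t
        simp only [Submodule.mem_smul_pointwise_iff_exists, LinearMap.mem_range,
          Submodule.mem_top, true_and]
        exact exists_congr fun b => by rw [← stalkLin_mulEnd]

end Groth.Agent.H17.ExtRegVanish
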