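import Mathlib.Algebra.Homology.DerivedCategory.Ext.ExactSequences
import Mathlib.Algebra.Homology.DerivedCategory.Ext.EnoughInjectives
import Mathlib.CategoryTheory.Preadditive.Injective.Basic
import Mathlib.CategoryTheory.Limits.Shapes.Products

/-!
# Natural endomorphisms and coproducts in the first variable of `Ext`
-/

universe w v u

open CategoryTheory CategoryTheory.Limits CategoryTheory.Abelian

namespace Groth.Agent.H17.ExtRegVanish

variable {C : Type u} [Category.{v} C] [Abelian C] [HasExt.{w} C] [EnoughInjectives C]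

/-- An embedding into an injective, as a short exact sequence. -/
theorem exists_injective_seq (E : C) :
    ∃ (S : ShortComplex C), S.ShortExact ∧ S.X₁ = E ∧ Injective S.X₂ :=
  ⟨ShortComplex.mk (Injective.ι E) (cokernel.π (Injective.ι E)) (cokernel.condition _),
    { exact := ShortComplex.exact_cokernel _ }, rfl, (inferInstance : Injective (Injective.under E))⟩

/-- A natural endomorphism of the identity acts the same way through both variables of `Ext`. -/
theorem comp_natTrans (α : 𝟭 C ⟶ 𝟭 C) : ∀ (n : ℕ) (G E : C) (x : Ext.{w} G E n),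
    x.comp (Ext.mk₀ (α.app E)) (add_zero n) = (Ext.mk₀ (α.app G)).comp x (zero_add n) := by
  intro n
  induction n with
  | zero =>
    intro G E x
    obtain ⟨φ, rfl⟩ : ∃ φ, Ext.mk₀ φ = x := ⟨Ext.addEquiv₀ x, Ext.addEquiv₀.symm_apply_apply x⟩
    rw [Ext.mk₀_comp_mk₀, Ext.mk₀_comp_mk₀]
    exact congrArg Ext.mk₀ (α.naturality φ)
  | succ n ih =>
    intro G E x
    obtain ⟨S, hS, rfl, hI⟩ := exists_injective_seq E
    obtain ⟨y, rfl⟩ := Ext.covariant_sequence_exact₁ _ hS x (Ext.eq_zero_of_injective _) rfl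
    let f : S ⟶ S := ⟨α.app _, α.app _, α.app _, (α.naturality S.f).symm, (α.naturality S.g).symm⟩
    have h : hS.extClass.comp (Ext.mk₀ (α.app S.X₁)) (add_zero 1) =
        (Ext.mk₀ (α.app S.X₃)).comp hS.extClass (zero_add 1) :=
      ShortComplex.ShortExact.extClass_naturality hS hS f
    rw [Ext.comp_assoc_of_third_deg_zero, h, ← Ext.comp_assoc_of_second_deg_zero, ih,
      Ext.comp_assoc _ _ _ (zero_add n) rfl (by lia)]

/-- A class out of a coproduct vanishes if it vanishes on every summand. -/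
theorem eq_zero_of_sigma {ι : Type*} (L : ι → C) [HasCoproduct L] : ∀ (n : ℕ) (E : C)
    (x : Ext.{w} (∐ L) E n), (∀ i, (Ext.mk₀ (Sigma.ι L i)).comp x (zero_add n) = 0) → x = 0 := by
  intro n
  induction n with
  | zero =>
    intro E x h
    obtain ⟨φ, rfl⟩ : ∃ φ, Ext.mk₀ φ = x := ⟨Ext.addEquiv₀ x, Ext.addEquiv₀.symm_apply_apply x⟩
    rw [show φ = 0 from Sigma.hom_ext _ _ fun i => ?_, Ext.mk₀_zero]
    rw [comp_zero]
    refine Ext.addEquiv₀.symm.injective ?_
    have := h i
    rw [Ext.mk₀_comp_mk₀] at this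
    exact this.trans (Ext.mk₀_zero _ _).symm
  | succ n ih =>
    intro E x h
    obtain ⟨S, hS, rfl, hI⟩ := exists_injective_seq E
    obtain ⟨y, rfl⟩ := Ext.covariant_sequence_exact₁ _ hS x (Ext.eq_zero_of_injective _) rfl
    have h' : ∀ i, ∃ z : Ext.{w} (L i) S.X₂ n,
        z.comp (Ext.mk₀ S.g) (add_zero n) = (Ext.mk₀ (Sigma.ι L i)).comp y (zero_add n) := fun i => by
      refine Ext.covariant_sequence_exact₃ _ hS _ rfl ?_
      rw [Ext.comp_assoc _ _ _ (zero_add n) rfl (by lia)]
      exact h i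
    choose z hz using h'
    cases n with
    | zero =>
      let w : (∐ L) ⟶ S.X₂ := Sigma.desc fun i => Ext.addEquiv₀ (z i)
      have hy : y = (Ext.mk₀ w).comp (Ext.mk₀ S.g) (add_zero 0) := by
        refine sub_eq_zero.1 (ih _ _ fun i => ?_)
        rw [sub_eq_add_neg, Ext.comp_add, Ext.comp_neg, ← sub_eq_add_neg, sub_eq_zero, ← Ext.comp_assoc_of_third_deg_zero, Ext.mk₀_comp_mk₀,
          Sigma.ι_desc, ← hz]
        exact congrArg (fun t => Ext.comp t (Ext.mk₀ S.g) (add_zero 0))
          (Ext.addEquiv₀.symm_apply_apply (z i)).symm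
      rw [hy, Ext.comp_assoc_of_second_deg_zero, hS.comp_extClass, Ext.comp_zero]
    | succ m =>
      have hy : y = 0 := ih _ _ fun i => by
        rw [← hz i, Ext.eq_zero_of_injective (z i), Ext.zero_comp]
      rw [hy, Ext.zero_comp]

end Groth.Agent.H17.ExtRegVanish
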