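import Groth.Agent.H17.ExtRegVanish.Regular
import Groth.Agent.H10Inj.Noetherian
import Groth.Agent.H10Inj.SheafExt.ExtAdj
import Groth.Agent.H16Derived.KFlat.RestrictD

/-!
# Vanishing of `Ext` below a local depth, glued
-/

set_option autoImplicit false
universe u

open CategoryTheory CategoryTheory.Limits CategoryTheory.Abelian AlgebraicGeometry TopologicalSpace

noncomputable section

namespace Groth.Agent.H17.ExtRegVanish

open Groth.Agent.H06Mod Groth.Agent.H29Omega Groth.Agent.H17.KoszTwist

variable {X : Scheme.{u}}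

local notation "R(" U ")" => Scheme.Modules.restrictFunctor (Scheme.Opens.ι U)

/-- Extension by zero of a restriction embeds into the module. -/
theorem mono_counit (U : X.Opens) (G : X.Modules) :
    Mono ((CxOX.extZeroAdj U.ι).counit.app G) := by
  refine mono_of_stalk_injective _ fun x => ?_
  by_cases hx : x ∈ U
  · haveI := H10Inj.isIso_extZero_unit' U.ι
    have hi : IsIso ((R(U)).map ((CxOX.extZeroAdj U.ι).counit.app G)) :=
      have := (CxOX.extZeroAdj U.ι).right_triangle_components G
      IsIso.of_isIso_fac_left this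
    haveI := hi
    have hst := H10Inj.isIso_stalk_of_restrict' U.ι ((CxOX.extZeroAdj U.ι).counit.app G) ⟨x, hx⟩
    intro a b h
    haveI : IsIso ((DerSch.stalkFunctor X x).map ((CxOX.extZeroAdj U.ι).counit.app G)) := hst
    exact (ConcreteCategory.bijective_of_isIso
      ((DerSch.stalkFunctor X x).map ((CxOX.extZeroAdj U.ι).counit.app G))).1 h
  · have h0 := H10Inj.isZero_stalk_extZero U.ι ((R(U)).obj G) x (by rwa [Scheme.Opens.range_ι])
    haveI := ModuleCat.subsingleton_of_isZero h0
    intro a b _
    exact @Subsingleton.elim _ this a b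

variable {ι : Type u} (U : ι → X.Opens)
  (l : ∀ i, List Γ((U i : Scheme.{u}), ⊤))

/-- Killed on every member of the covering by the chosen functions. -/
def KilledOn (G : X.Modules) : Prop := ∀ i, Killed (l i) ((R(U i)).obj G)

theorem KilledOn.of_mono {A B : X.Modules} (m : A ⟶ B) [Mono m] (h : KilledOn U l B) :
    KilledOn U l A := fun i => (h i).of_mono ((R(U i)).map m)

theorem killedOn_sigma {J : Type u} (L : J → X.Modules) (h : ∀ j, KilledOn U l (L j)) :
    KilledOn U l (∐ L) := fun i a ha => by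
  haveI : (R(U i)).IsLeftAdjoint := (Scheme.Modules.restrictAdjunction (U i).ι).isLeftAdjoint
  refine (isColimitOfPreserves (R(U i)) (coproductIsCoproduct L)).hom_ext fun j => ?_
  show (R(U i)).map (Sigma.ι L j.as) ≫ mulEnd a _ = (R(U i)).map (Sigma.ι L j.as) ≫ 0
  rw [mulEnd_natural, h j.as i a ha, zero_comp, comp_zero]

variable [HasExt.{u} X.Modules]

/-- Vanishing of `Ext` below the length of local regular sequences. -/
theorem subsingleton_ext_of_local (hU : iSup U = ⊤) (E : X.Modules) (c : ℕ)
    (hlen : ∀ i, c ≤ (l i).length)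
    (hreg : ∀ i (y : (U i : Scheme.{u})), RingTheory.Sequence.IsWeaklyRegular
      (((R(U i)).obj E).presheaf.stalk y)
      ((l i).map (fun a => (U i : Scheme.{u}).presheaf.germ ⊤ y trivial a))) :
    ∀ q < c, ∀ G : X.Modules, KilledOn U l G → Subsingleton (Ext.{u} G E q) := by
  haveI : EnoughInjectives X.Modules := H10Coh.enoughInjMod X
  intro q
  induction q using Nat.strong_induction_on with
  | _ q ih =>
  intro hq G hG
  let L : ι → X.Modules := fun i => (CxOX.extZero (U i).ι).obj ((R(U i)).obj G)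
  let g : (∐ L) ⟶ G := Sigma.desc fun i => (CxOX.extZeroAdj (U i).ι).counit.app G
  have hL : ∀ j, KilledOn U l (L j) := fun j =>
    haveI := mono_counit (U j) G
    KilledOn.of_mono U l ((CxOX.extZeroAdj (U j).ι).counit.app G) hG
  haveI : Epi g := by
    refine epi_of_surjective_stalkLin _ fun x a => ?_
    have hx : x ∈ iSup U := hU ▸ trivial
    obtain ⟨i, hi⟩ := Opens.mem_iSup.1 hx
    haveI := H10Inj.isIso_extZero_unit' (U i).ι
    haveI : IsIso ((R(U i)).map ((CxOX.extZeroAdj (U i).ι).counit.app G)) :=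
      IsIso.of_isIso_fac_left ((CxOX.extZeroAdj (U i).ι).right_triangle_components G)
    haveI : IsIso ((DerSch.stalkFunctor X x).map ((CxOX.extZeroAdj (U i).ι).counit.app G)) :=
      H10Inj.isIso_stalk_of_restrict' (U i).ι _ ⟨x, hi⟩
    obtain ⟨b, hb⟩ := (ConcreteCategory.bijective_of_isIso
      ((DerSch.stalkFunctor X x).map ((CxOX.extZeroAdj (U i).ι).counit.app G))).2 a
    refine ⟨stalkLin (Sigma.ι L i) x b, ?_⟩
    rw [← stalkLin_comp, Sigma.ι_desc]
    exact hb
  refine subsingleton_of_forall_eq 0 fun x => ?_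
  have hgx : (Ext.mk₀ g).comp x (zero_add q) = 0 := by
    refine eq_zero_of_sigma L q E _ fun i => ?_
    haveI : EnoughInjectives ((U i : Scheme.{u})).Modules := H10Coh.enoughInjMod _
    haveI := H16Derived.KFlat.Stalk.preservesFiniteLimits_extZero (U i)
    haveI : (CxOX.extZero (U i).ι).PreservesMonomorphisms := inferInstance
    obtain ⟨e⟩ := H10Inj.SheafExt.nonempty_ext_adj (CxOX.extZeroAdj (U i).ι) ((R(U i)).obj G) E q
    have := subsingleton_ext_of_regular (l i) ((R(U i)).obj G) ((R(U i)).obj E) (hG i) (hreg i) q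
      (lt_of_lt_of_le hq (hlen i))
    have := e.toEquiv.subsingleton
    exact Subsingleton.elim _ _
  cases q with
  | zero =>
    obtain ⟨φ, rfl⟩ : ∃ φ, Ext.mk₀ φ = x := ⟨Ext.addEquiv₀ x, Ext.addEquiv₀.symm_apply_apply x⟩
    rw [Ext.mk₀_comp_mk₀] at hgx
    have : g ≫ φ = 0 := Ext.addEquiv₀.symm.injective (hgx.trans (Ext.mk₀_zero _ _).symm)
    rw [show φ = 0 from (cancel_epi g).1 (this.trans comp_zero.symm), Ext.mk₀_zero]
  | succ n =>
    let S := ShortComplex.mk (kernel.ι g) g (kernel.condition g)
    have hS : S.ShortExact := { exact := ShortComplex.exact_kernel g }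
    obtain ⟨y, rfl⟩ := Ext.contravariant_sequence_exact₃ hS E x hgx (n₀ := n) (by lia)
    have := ih n (Nat.lt_succ_self n) (Nat.lt_of_succ_lt hq) (kernel g)
      ((killedOn_sigma U l L hL).of_mono U l (kernel.ι g))
    rw [show y = 0 from Subsingleton.elim _ _, Ext.comp_zero]

end Groth.Agent.H17.ExtRegVanish
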