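import Groth.Agent.H17.ExtRegVanish.Glue
import Groth.Agent.H10Coh.HigherDirect
import Groth.Agent.H16Derived.KFlat.FinLocFree
import Groth.Agent.H16Derived.KFlat.LocFreeOps
import Groth.Agent.H8Props.FinLocFree.Global
import Groth.Prelude.Def_RegImm
import Mathlib.RingTheory.Regular.Flat

/-!
# Local data of a regular immersion
-/

set_option autoImplicit false
universe u

open CategoryTheory CategoryTheory.Limits AlgebraicGeometry TopologicalSpace

noncomputable section

namespace Groth.Agent.H17.ExtRegVanish

variable {X : Scheme.{u}} (U : X.Opens)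

/-- Multiplication on a restriction vanishes if the function kills all sections below the open. -/
theorem mulEnd_restrict_eq_zero (M : X.Modules) (r : Γ(X, U))
    (h : ∀ (W : X.Opens) (hW : W ≤ U) (m : Γ(M, W)), X.presheaf.map (homOfLE hW).op r • m = 0) :
    mulEnd (U.topIso.inv r) ((Scheme.Modules.restrictFunctor U.ι).obj M) = 0 := by
  refine Scheme.Modules.hom_ext _ _ fun V => ?_
  ext m
  have hV : U.ι ''ᵁ V ≤ U := by
    rintro _ ⟨y, -, rfl⟩
    exact y.2
  have h1 := H10Coh.restrict_smul_pow U M r V hV 1 m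
  simp only [pow_one] at h1
  exact h1.trans (h _ hV m)

/-- The germs of a regular sequence are regular on the stalks of a locally free module. -/
theorem isWeaklyRegular_restrict (hU : IsAffineOpen U) {E : X.Modules} (hE : FlatMod.IsFinLocFree E)
    (rs : List Γ(X, U)) (hrs : RingTheory.Sequence.IsWeaklyRegular Γ(X, U) rs)
    (y : (U : Scheme.{u})) :
    RingTheory.Sequence.IsWeaklyRegular
      (((Scheme.Modules.restrictFunctor U.ι).obj E).presheaf.stalk y)
      ((rs.map U.topIso.inv).map (fun a => (U : Scheme.{u}).presheaf.germ ⊤ y trivial a)) := by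
  haveI : IsAffine (U : Scheme.{u}) := hU
  let e : Γ(X, U) ≃+* Γ((U : Scheme.{u}), ⊤) := U.topIso.symm.commRingCatIsoToRingEquiv
  have h1 : RingTheory.Sequence.IsWeaklyRegular Γ((U : Scheme.{u}), ⊤) (rs.map U.topIso.inv) := by
    refine (AddEquiv.isWeaklyRegular_congr (e := e.toAddEquiv) ?_).1 hrs
    rw [List.forall₂_map_right_iff]
    exact List.forall₂_same.2 fun r _ x => map_mul e r x
  let z : (⊤ : (U : Scheme.{u}).Opens) := ⟨y, trivial⟩
  letI := TopCat.Presheaf.algebra_section_stalk (U : Scheme.{u}).presheaf z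
  haveI : IsLocalization.AtPrime ((U : Scheme.{u}).presheaf.stalk y)
      ((isAffineOpen_top (U : Scheme.{u})).primeIdealOf z).asIdeal :=
    (isAffineOpen_top (U : Scheme.{u})).isLocalization_stalk z
  haveI : Module.Flat Γ((U : Scheme.{u}), ⊤) ((U : Scheme.{u}).presheaf.stalk y) :=
    IsLocalization.flat _ ((isAffineOpen_top (U : Scheme.{u})).primeIdealOf z).asIdeal.primeCompl
  have h2 : RingTheory.Sequence.IsWeaklyRegular ((U : Scheme.{u}).presheaf.stalk y)
      ((rs.map U.topIso.inv).map (fun a => (U : Scheme.{u}).presheaf.germ ⊤ y trivial a)) :=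
    h1.of_flat (S := (U : Scheme.{u}).presheaf.stalk y)
  haveI : Module.Free ((U : Scheme.{u}).presheaf.stalk y)
      (((Scheme.Modules.restrictFunctor U.ι).obj E).presheaf.stalk y) :=
    H8Props.FinLocFree.free_stalk _ (H16Derived.KFlat.Stalk.isFinLocFree_of_iso
      ((Scheme.Modules.restrictFunctorIsoPullback U.ι).app E).symm
      (H16Derived.KFlat.Stalk.isFinLocFree_pullback U.ι hE)) y
  exact ((TensorProduct.lid _ _).isWeaklyRegular_congr _).1
    (h2.isWeaklyRegular_rTensor (M₂ := ((Scheme.Modules.restrictFunctor U.ι).obj E).presheaf.stalk y))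

end Groth.Agent.H17.ExtRegVanish
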